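import Cfsg.Agent.Mrg.Omega.IId.Cv.TwoV_m3
import Cfsg.Agent.Mrg.Omega.IId.Cv.MixEnd_m3
import Cfsg.Agent.Mrg.Omega.NO3S.OneQ.Tor_m3
import Cfsg.Agent.Mrg.Omega.NO3S.CaseLW.QWex_m3
import Cfsg.Agent.Mrg.Omega.NO3S.CaseLW.KSharp_m3
import Cfsg.Agent.Mrg.Omega.NO3S.SFive.Chamber_m3
import Cfsg.Agent.Prune
set_option linter.all false

-- part: Mrg/Omega/IId/Cv/MixEnd_mg
section

end

-- part: Mrg/Omega/CaseLQ/KSh
section
set_option linter.all false
open scoped Cfsg.Agent.FastGrp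

section


/-!
# The weird parabolics of the case (L): the group `K♯` (#25080 (c))

`LMd S P T Y R H U`, `D = DX S P Y`, `V = ⟨Z^GX⟩`.

* `KSh S P Y U K 𝒜` : `K ≤ O₂(P)` is weakly closed in `S`, `K ≰ O₂(Y)`, `K = ⟨D, 𝒜⟩`, all members of `𝒜` are best
  offenders on `U` (or trivial on it) in `O₂(P)`, and `𝒜` is normalised by `S`; `KSh.conj_T`, `KSh.lt`;
* `LMd.exists_KSh` : **`K♯ ≤ O₂(P)`**: if all best offenders `A ≤ T` on `U` centralise `V_j`, and every `A ≤ S` which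
  moves `V_P` has a conjugate under `S` which moves `V_j`, then `KSh S P Y U K 𝒜` for some `K`, `𝒜`;
* `cent_of_lines` : `V_j ≤ ⟨c_i⟩ Λ`, `A` centralises all `c_i` and `Λ`: `A` centralises `V_j`.
-/

set_option autoImplicit false
set_option linter.unusedSectionVars false

namespace Cfsg.Agent.Omega.CaseLQ

open Subgroup Cfsg Cfsg.Agent.ZN Cfsg.Agent.ZN.ChoiceBase Cfsg.Agent.Omega.MinPar Cfsg.Agent.Omega.Frame
open Cfsg.Agent.Omega.NO3b.Wc (WC)
open Cfsg.Agent.Omega.NO3S.Level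
open Cfsg.Agent.Omega.NO3S.RedC
open Cfsg.Agent.Omega.NO3S.WY
open Cfsg.Agent.Omega.NO3S.CaseLW (KS le_KS wc_KS)
open Cfsg.Agent.Omega.NO1.BestOff (Best)
open Cfsg.Agent.Omega.FFThm (OffM ElemM)
open scoped Pointwise

universe u

variable {G : Type u} [Group G]

variable [Finite G]

/-- **The group `K♯`.** -/
structure KSh (S : Sylow 2 G) (P Y U K : Subgroup G) (𝒜 : Set (Subgroup G)) : Prop where
  wc : WC (S : Subgroup G) K
  le : K ≤ o2 P
  nY : ¬ K ≤ o2 Y
  eq : K = DX (S : Subgroup G) P Y ⊔ sSup 𝒜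
  leP : ∀ A ∈ 𝒜, A ≤ o2 P
  best : ∀ A ∈ 𝒜, Best U A
  conj : ∀ A ∈ 𝒜, ∀ s ∈ (S : Subgroup G), cj s A ∈ 𝒜

namespace KSh

variable {S : Sylow 2 G} {P Y U K : Subgroup G} {𝒜 : Set (Subgroup G)} (h : KSh S P Y U K 𝒜)
include h

theorem DX_le : DX (S : Subgroup G) P Y ≤ K := h.eq ▸ le_sup_left

theorem mem_le {A : Subgroup G} (hA : A ∈ 𝒜) : A ≤ K := by
  rw [h.eq]
  exact (le_sSup hA).trans le_sup_right

theorem lt : DX (S : Subgroup G) P Y < K := by
  refine lt_of_le_of_ne h.DX_le fun e => h.nY ?_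
  rw [← e]
  exact DX_le_X _ _ _

theorem card_lt : Nat.card (DX (S : Subgroup G) P Y) < Nat.card K :=
  lt_of_le_of_ne (Nat.card_mono (Set.toFinite _) (h.DX_le : (DX (S : Subgroup G) P Y : Set G) ⊆ K)) fun e =>
    h.lt.ne (Subgroup.eq_of_le_of_card_ge h.DX_le e.ge)

/-- Weird parabolics `Y'` which contain `K♯` in `O₂(Y')` have `|DX(Y')| > |DX(Y)|`. -/
theorem card_lt_of_le {Y' : Subgroup G} (hY : K ≤ o2 Y') :
    Nat.card (DX (S : Subgroup G) P Y) < Nat.card (DX (S : Subgroup G) P Y') :=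
  lt_of_lt_of_le h.card_lt (Nat.card_mono (Set.toFinite _) (le_DX h.wc h.le hY : (K : Set G) ⊆ _))

/-- some member of the family is not in `O₂(Y)` -/
theorem exists_act : ∃ A ∈ 𝒜, ¬ A ≤ o2 Y := by
  by_contra hcon
  push Not at hcon
  apply h.nY
  rw [h.eq]
  exact sup_le (DX_le_X _ _ _) (sSup_le hcon)

end KSh

/-- **`K♯ ≤ O₂(P)`** -/
theorem exists_KSh {S : Sylow 2 G} {P T Y R H U : Subgroup G} (m : LMd S P T Y R H U) {Vj : Subgroup G}
    (hloc : ∀ A : Subgroup G, A ≤ T → Best U A → A ≤ centralizer (Vj : Set G))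
    (hN : ∀ A : Subgroup G, A ≤ (S : Subgroup G) → ¬ A ≤ o2 P →
      ∃ s ∈ (S : Subgroup G), ¬ cj s A ≤ centralizer (Vj : Set G)) :
    ∃ (K : Subgroup G) (𝒜 : Set (Subgroup G)), KSh S P Y U K 𝒜 := by
  have h := m.wq
  have hV : Md S P Y (ZN.zl (S : Subgroup G) (GX (S : Subgroup G) P Y)) := h.md_zl
  have hcj : ∀ s ∈ (S : Subgroup G), cj s (S : Subgroup G) = S := fun s hs =>
    cj_eq_of_mem_normalizer (le_normalizer hs : s ∈ normalizer ((S : Subgroup G) : Set G))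
  -- a family
  have key : ∀ 𝓕 : Set (Subgroup G), (∀ A ∈ 𝓕, ∀ n ∈ GX (S : Subgroup G) P Y, cj n A ∈ 𝓕) →
      (∀ A ∈ 𝓕, A ≤ (S : Subgroup G) → A ≤ o2 P) → (∀ A ∈ 𝓕, A ≤ (S : Subgroup G) → Best U A) →
      (∃ A ∈ 𝓕, A ≤ o2 P ∧ ¬ A ≤ o2 Y) → ∃ (K : Subgroup G) (𝒜 : Set (Subgroup G)), KSh S P Y U K 𝒜 := by
    intro 𝓕 h1 h2 h3 ⟨A, hA, hAP, hAY⟩
    refine ⟨KS (S : Subgroup G) (DX (S : Subgroup G) P Y) 𝓕, {A | A ∈ 𝓕 ∧ A ≤ (S : Subgroup G)}, ?_⟩
    exact
      { wc := wc_KS (wc_DX _ _ _) h1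
        le := sup_le (DX_le_P _ _ _) (sSup_le fun B hB => h2 B hB.1 hB.2)
        nY := fun hc => hAY ((le_KS hA (hAP.trans h.o2P_le)).trans hc)
        eq := rfl
        leP := fun B hB => h2 B hB.1 hB.2
        best := fun B hB => h3 B hB.1 hB.2
        conj := fun B hB s hs => ⟨h1 B hB.1 s (h.S_le hs), by
          have := cj_mono s hB.2
          rwa [hcj s hs] at this⟩ }
  rcases h.cut with hp | ⟨hn, hw⟩
  · exact key {A | MaxMin (ZN.zl (S : Subgroup G) (GX (S : Subgroup G) P Y)) (GX (S : Subgroup G) P Y) A}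
      (fun A hA n hn => MaxMin.cj hA hn hV.norm) (fun A hA hAS => hp.pas A hA hAS)
      (fun A hA _ => best_mono (MaxMin.best hA) m.UV (h.Vc hV)) hp.act
  · -- all `W_F ≤ S` lie in `O₂(P)`
    have hpas : ∀ F, NOne.Flat.Hyp (ZN.zl (S : Subgroup G) (GX (S : Subgroup G) P Y)) F →
        NOne.Flat.WW (ZN.zl (S : Subgroup G) (GX (S : Subgroup G) P Y)) F ≤ (S : Subgroup G) →
        NOne.Flat.WW (ZN.zl (S : Subgroup G) (GX (S : Subgroup G) P Y)) F ≤ o2 P := by
      intro F hF hWS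
      by_contra hP
      obtain ⟨s, hs, hne⟩ := hN _ hWS hP
      have hsV : s ∈ normalizer (ZN.zl (S : Subgroup G) (GX (S : Subgroup G) P Y) : Set G) := hV.norm (h.S_le hs)
      have hWs : NOne.Flat.WW (ZN.zl (S : Subgroup G) (GX (S : Subgroup G) P Y)) (MulAut.conj s • F) ≤
          (S : Subgroup G) := by
        rw [WW_cj hsV]
        have := cj_mono s hWS
        rwa [hcj s hs] at this
      have hFs := hyp_cj hF hsV
      rw [← WW_cj hsV] at hne
      exact hne (hloc _ ((h.W_B hV hFs hWs).trans m.BT) (bestW hFs (m.U_E' hV hFs hWs)))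
    refine key {A | ∃ F, NOne.Flat.Hyp (ZN.zl (S : Subgroup G) (GX (S : Subgroup G) P Y)) F ∧
        NOne.Flat.WW (ZN.zl (S : Subgroup G) (GX (S : Subgroup G) P Y)) F = A}
      (fun A hA n hn => by
        obtain ⟨F, hF, rfl⟩ := hA
        have hnV : n ∈ normalizer (ZN.zl (S : Subgroup G) (GX (S : Subgroup G) P Y) : Set G) := hV.norm hn
        exact ⟨MulAut.conj n • F, hF.conj hnV, (NOne.Flat.WW_conj hnV).symm⟩)
      (fun A hA hAS => by
        obtain ⟨F, hF, rfl⟩ := hA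
        exact hpas F hF hAS)
      (fun A hA hAS => by
        obtain ⟨F, hF, rfl⟩ := hA
        exact bestW hF (m.U_E' hV hF hAS)) ?_
    rcases hw with ⟨F, hw⟩ | ⟨F, hw⟩
    · exact absurd (hpas F hw.hyp hw.WS) hw.mv
    · exact ⟨_, ⟨F, hw.hyp, rfl⟩, hw.WQ, hw.mv⟩

end Cfsg.Agent.Omega.CaseLQ

end

section


/-!
# The best offenders in `T` centralise the lines (#25080 (c))

`Y` a minimal parabolic of characteristic 2 over `T`, `V_Y = zl T Y ≤ U`, `U` abelian, `A ≤ T` a best offender on `U`.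

* `best_or` : `A` centralises `V_Y` or it is an offender on `V_Y`;
* `cent_natL` : natural blocks: `A` centralises all `v ∈ V_Y` on the lines (`e v l 1 = 0` for all `l`), split or not;
* `cent_symL` : symmetric blocks: `A` centralises `u_xy` for all transpositions `(x y)` induced by `T`;
* `hloc_nat` : the hypothesis `hloc` of `exists_KSh`.
-/

set_option autoImplicit false
set_option linter.unusedSectionVars false

namespace Cfsg.Agent.Omega.CaseLQ

open Subgroup Cfsg Cfsg.Agent.ZN Cfsg.Agent.ZN.ChoiceBase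
open Cfsg.Agent.Omega.FFThm (OffM ElemM NatKM SymKM ActsSL ActsSym)
open Cfsg.Agent.Omega.FrameFF (cv)
open Cfsg.Agent.Omega.NO1.BestOff (Best)
open Cfsg.Agent.Omega.NO3S.WY (best_mono)
open Cfsg.Agent.Omega.SQ1.FFOne (MinH)
open Cfsg.Agent.Omega.SQ1.FFSym (Gd u)
open Cfsg.Agent.Omega.NO3S.OneLine (natC_of sy_of disj')
open Cfsg.Agent.Lib.SL2Mat

universe w

variable {G : Type w} [Group G] [Finite G] {U V T Y A : Subgroup G}

/-- A best offender on `U` centralises `V ≤ U` or is an offender on it. -/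
theorem best_or (Uc : U ≤ centralizer (U : Set G)) (VU : V ≤ U) (hB : Best U A) :
    A ≤ centralizer (V : Set G) ∨ OffM V A := by
  by_cases h : A ≤ centralizer (V : Set G)
  · exact Or.inl h
  · exact Or.inr ((best_mono hB VU Uc).offM le_rfl h)

/-- **natural blocks** : the best offenders in `T` centralise the full preimage of the lines. -/
theorem cent_natL {F : Type} [Field F] [Finite F] [CharP F 2] {k : ℕ} (hm : MinH Y T)
    (N : NatKM F T Y (zl T Y) (cv T Y) k) (hk : 0 < k) (Uc : U ≤ centralizer (U : Set G)) (VU : zl T Y ≤ U)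
    (hA : A ≤ T) (hB : Best U A) {v : G} (hv : v ∈ zl T Y) (hl : ∀ i, N.e v i 1 = 0) {a : G} (ha : a ∈ A) :
    a * v = v * a := by
  rcases best_or Uc VU hB with h | h
  · exact (mem_centralizer_iff.1 (h ha) v hv).symm
  · obtain ⟨I, h1, h2⟩ := N.offM A hA h
    exact (natC_of hm hk N.toNatK).cent_line hm hA h.le h1 h2 hv hl ha

end Cfsg.Agent.Omega.CaseLQ

end
end
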